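import Groth.Agent.KoszDetLib.Model
import Groth.Prelude.Def_LCI2
import Mathlib.RingTheory.Flat.Stability
import Mathlib.LinearAlgebra.TensorProduct.Prod
import Mathlib.LinearAlgebra.TensorProduct.RightExactness
import Mathlib.Algebra.Homology.ShortComplex.ModuleCat

/-!
# The recursive model computes the mapping-cone Koszul complex; flat base change
-/

set_option autoImplicit false

universe u

open CategoryTheory CategoryTheory.Limits CochainComplex CochainComplex.HomComplex TensorProduct

namespace KoszDetLib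

noncomputable section

variable {Q : Type u} [CommRing Q]

local notation "KL" l => Koszul.koszul Q l

abbrev cphi (g : Q) (l : List Q) : (KL l) ⟶ (KL l) := g • 𝟙 (KL l)

/-- The model of the mapping-cone complex. -/
def emb : ∀ {n : ℕ} (f : Fin n → Q) (i : ℤ), ((KL (List.ofFn f)).X i : Type u) →ₗ[Q] Kz Q n
  | 0, _, i =>
    if h : i = 0 then
      (LinearMap.pi fun _ => LinearMap.id : Q →ₗ[Q] Kz Q 0) ∘ₗ
        (show ((KL (List.ofFn (Fin.elim0 : Fin 0 → Q))).X i ⟶ ModuleCat.of Q Q) from
          eqToHom (by rw [h]; rfl) ≫ (HomologicalComplex.singleObjXSelf (ComplexShape.up ℤ) 0 (ModuleCat.of Q Q)).hom).hom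
    else 0
  | n + 1, f, i =>
    (join ∘ₗ ((emb (Fin.tail f) i ∘ₗ
      ((mappingCone.snd (cphi (f 0) (List.ofFn (Fin.tail f)))).v i i (add_zero i)).hom).prod
      (emb (Fin.tail f) (i + 1) ∘ₗ
      ((mappingCone.fst (cphi (f 0) (List.ofFn (Fin.tail f)))).1.v i (i + 1) rfl).hom))) ∘ₗ
    (eqToHom (by rw [List.ofFn_succ]; rfl) :
      (KL (List.ofFn f)).X i ⟶ (mappingCone (cphi (f 0) (List.ofFn (Fin.tail f)))).X i).hom

/-- Cast between the Koszul complex of `f` and the cone. -/
def cst' {n : ℕ} (f : Fin (n + 1) → Q) :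
    (KL (List.ofFn f)) ≅ mappingCone (cphi (f 0) (List.ofFn (Fin.tail f))) :=
  eqToIso (by rw [List.ofFn_succ]; rfl)

theorem emb_succ {n : ℕ} (f : Fin (n + 1) → Q) (i : ℤ) (z : (KL (List.ofFn f)).X i) :
    emb f i z = join (emb (Fin.tail f) i
        (((mappingCone.snd (cphi (f 0) (List.ofFn (Fin.tail f)))).v i i (add_zero i)).hom (((cst' f).hom.f i).hom z)),
      emb (Fin.tail f) (i + 1)
        (((mappingCone.fst (cphi (f 0) (List.ofFn (Fin.tail f)))).1.v i (i + 1) rfl).hom (((cst' f).hom.f i).hom z))) := by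
  have : ((cst' f).hom.f i) = eqToHom (by rw [List.ofFn_succ]; rfl) := by
    rw [cst', eqToIso.hom, HomologicalComplex.eqToHom_f]
  rw [this]
  rfl

/-- Also makes the equation lemmas of `emb` be generated here, once, instead of in each importer. -/
theorem emb_zero_of_ne (f : Fin 0 → Q) {i : ℤ} (h : i ≠ 0) : emb f i = 0 := by
  simp [emb, dif_neg h]

theorem emb_zero_base (f : Fin 0 → Q) (z : (KL (List.ofFn f)).X 0) :
    emb f 0 z = fun _ => ((HomologicalComplex.singleObjXSelf (ComplexShape.up ℤ) 0 (ModuleCat.of Q Q)).hom).hom z :=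
  rfl

theorem emb_d : ∀ {n : ℕ} (f : Fin n → Q) (i : ℤ) (z : (KL (List.ofFn f)).X i),
    emb f (i + 1) (((KL (List.ofFn f)).d i (i + 1)).hom z) = D f (emb f i z)
  | 0, f, i, z => by
    have : (KL (List.ofFn f)).d i (i + 1) = 0 := by
      show ((HomologicalComplex.single (ModuleCat.{u} Q) (ComplexShape.up ℤ) 0).obj _).d i (i + 1) = 0
      rfl
    rw [this, ModuleCat.hom_zero, LinearMap.zero_apply, map_zero]
    rfl
  | n + 1, f, i, z => by
    have hc := ConcreteCategory.congr_hom ((cst' f).hom.comm i (i + 1)) z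
    rw [ModuleCat.comp_apply, ModuleCat.comp_apply] at hc
    refine join_ext ?_ ?_
    · rw [emb_succ, pa_join, pa_D, emb_succ, pa_join, pb_join, ← hc]
      have h := ConcreteCategory.congr_hom
        (mappingCone.d_snd_v (cphi (f 0) (List.ofFn (Fin.tail f))) i (i + 1) rfl) (((cst' f).hom.f i).hom z)
      rw [ModuleCat.comp_apply] at h
      erw [h]
      simp only [ModuleCat.hom_add, LinearMap.add_apply, map_add, ModuleCat.comp_apply]
      rw [add_comm]
      congr 1
      · exact emb_d (Fin.tail f) i _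
      · show emb (Fin.tail f) (i + 1) (f 0 • _) = _
        rw [map_smul]
        rfl
    · rw [emb_succ, pb_join, pb_D, emb_succ, pb_join, ← hc]
      have h := ConcreteCategory.congr_hom
        (mappingCone.d_fst_v (cphi (f 0) (List.ofFn (Fin.tail f))) i (i + 1) (i + 1 + 1) rfl rfl)
        (((cst' f).hom.f i).hom z)
      rw [ModuleCat.comp_apply] at h
      erw [h]
      simp only [ModuleCat.hom_neg, LinearMap.neg_apply, map_neg, ModuleCat.comp_apply]
      congr 1
      exact emb_d (Fin.tail f) (i + 1) _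

theorem emb_injective : ∀ {n : ℕ} (f : Fin n → Q) (i : ℤ), Function.Injective (emb f i)
  | 0, f, i => by
    rw [injective_iff_map_eq_zero]
    intro z hz
    by_cases h : i = 0
    · subst h
      rw [emb_zero_base] at hz
      have h0 := congrFun hz (bot 0)
      exact ((HomologicalComplex.singleObjXSelf (ComplexShape.up ℤ) 0 (ModuleCat.of Q Q)).toLinearEquiv).map_eq_zero_iff.1 h0
    · have : IsZero ((KL (List.ofFn f)).X i) :=
        HomologicalComplex.isZero_single_obj_X (ComplexShape.up ℤ) 0 (ModuleCat.of Q Q) i h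
      have := ModuleCat.subsingleton_of_isZero this
      exact Subsingleton.elim _ _
  | n + 1, f, i => by
    rw [injective_iff_map_eq_zero]
    intro z hz
    rw [emb_succ] at hz
    have ha := congrArg pa hz
    have hb := congrArg pb hz
    rw [pa_join, map_zero] at ha
    rw [pb_join, map_zero] at hb
    have ha' := (map_eq_zero_iff _ (emb_injective (Fin.tail f) i)).1 ha
    have hb' := (map_eq_zero_iff _ (emb_injective (Fin.tail f) (i + 1))).1 hb
    have h := ConcreteCategory.congr_hom
      (mappingCone.id_X (cphi (f 0) (List.ofFn (Fin.tail f))) i (i + 1) rfl) (((cst' f).hom.f i).hom z)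
    simp only [ModuleCat.hom_add, LinearMap.add_apply, ModuleCat.comp_apply, ha', hb', map_zero, add_zero,
      ModuleCat.id_apply] at h
    have e := ((HomologicalComplex.Hom.isoApp (cst' f) i).toLinearEquiv).map_eq_zero_iff.1 h.symm
    exact e

theorem emb_surj : ∀ {n : ℕ} (f : Fin n → Q) (i : ℤ) (p : ℕ) (_ : i + p = 0) (x : Kz Q n),
    ∃ z, emb f i z = proj p x
  | 0, f, i, p, hi, x => by
    cases p with
    | zero =>
      obtain rfl : i = 0 := by simpa using hi
      obtain ⟨z, hz⟩ := ((HomologicalComplex.singleObjXSelf (ComplexShape.up ℤ) 0 (ModuleCat.of Q Q)).toLinearEquiv).surjective (x (bot 0))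
      refine ⟨z, funext fun s => ?_⟩
      show ((HomologicalComplex.singleObjXSelf (ComplexShape.up ℤ) 0 (ModuleCat.of Q Q)).hom).hom z = _
      rw [proj_apply, if_pos (show deg s = 0 from rfl), eq_bot_of_deg s rfl]
      exact hz
    | succ p =>
      refine ⟨0, ?_⟩
      rw [map_zero]
      funext s
      simp [proj_apply, deg]
  | n + 1, f, i, p, hi, x => by
    obtain ⟨a, ha⟩ := emb_surj (Fin.tail f) i p hi (pa x)
    obtain ⟨b, hb⟩ : ∃ b, emb (Fin.tail f) (i + 1) b = pb (proj p x) := by
      cases p with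
      | zero => exact ⟨0, by rw [map_zero, pb_proj_zero]⟩
      | succ q => rw [pb_proj]; exact emb_surj (Fin.tail f) (i + 1) q (by omega) (pb x)
    let φ := cphi (f 0) (List.ofFn (Fin.tail f))
    refine ⟨((cst' f).inv.f i).hom (((mappingCone.inl φ).v (i + 1) i (by omega)).hom b +
      ((mappingCone.inr φ).f i).hom a), ?_⟩
    have e : ∀ w, ((cst' f).hom.f i).hom (((cst' f).inv.f i).hom w) = w := fun w =>
      ((HomologicalComplex.Hom.isoApp (cst' f) i).toLinearEquiv).apply_symm_apply w
    rw [emb_succ, e]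
    have h1 : ((mappingCone.fst φ).1.v i (i + 1) rfl).hom (((mappingCone.inl φ).v (i + 1) i (by omega)).hom b) = b :=
      ConcreteCategory.congr_hom (mappingCone.inl_v_fst_v φ (i + 1) i rfl) b
    have h2 : ((mappingCone.fst φ).1.v i (i + 1) rfl).hom (((mappingCone.inr φ).f i).hom a) = 0 :=
      ConcreteCategory.congr_hom (mappingCone.inr_f_fst_v φ i (i + 1) rfl) a
    have h3 : ((mappingCone.snd φ).v i i (add_zero i)).hom (((mappingCone.inl φ).v (i + 1) i (by omega)).hom b) = 0 :=
      ConcreteCategory.congr_hom (mappingCone.inl_v_snd_v φ (i + 1) i (by omega)) b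
    have h4 : ((mappingCone.snd φ).v i i (add_zero i)).hom (((mappingCone.inr φ).f i).hom a) = a :=
      ConcreteCategory.congr_hom (mappingCone.inr_f_snd_v φ i) a
    simp only [map_add, φ] at h1 h2 h3 h4 ⊢
    rw [h1, h2, h3, h4, map_zero, map_zero, zero_add, add_zero, ha, hb, ← pa_proj]
    exact join_ext rfl rfl

theorem mem_range_proj_zero : ∀ {n : ℕ} (f : Fin n → Q) (q : Q), q ∈ Ideal.span (Set.range f) →
    q • one n ∈ LinearMap.range (D f) := by
  intro n f q hq
  induction hq using Submodule.span_induction with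
  | mem q hq =>
    obtain ⟨i, rfl⟩ := hq
    refine ⟨L (Pi.single i 1) (one n), ?_⟩
    have := D_L f (Pi.single i 1) (one n)
    rw [D_one, map_zero, add_zero] at this
    rw [this]
    simp [Pi.single_apply]
  | zero => rw [zero_smul]; exact Submodule.zero_mem _
  | add a b _ _ ha hb => rw [add_smul]; exact Submodule.add_mem _ ha hb
  | smul c a _ ha => rw [smul_assoc]; exact Submodule.smul_mem _ c ha

theorem isExactK_of_isKoszulRegularSeq {n : ℕ} (f : Fin n → Q)
    (hf : LCI.IsKoszulRegularSeq Q (List.ofFn f)) : IsExactK f := by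
  intro x hx he
  rw [← sum_proj x]
  refine Submodule.sum_mem _ fun p _ => ?_
  cases p with
  | zero => rw [proj_zero_eq]; exact mem_range_proj_zero f _ he
  | succ p =>
    let K := KL (List.ofFn f)
    obtain ⟨z, hz⟩ := emb_surj f (-(p + 1 : ℤ)) (p + 1) (by push_cast; ring) x
    have hd : (K.d (-(p + 1 : ℤ)) (-(p + 1 : ℤ) + 1)).hom z = 0 := by
      apply emb_injective f
      rw [emb_d, hz, D_proj_succ, hx, map_zero, map_zero]
    have hex : K.ExactAt (-(p + 1 : ℤ)) :=
      (HomologicalComplex.exactAt_iff_isZero_homology K _).2 (hf _ (by omega))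
    rw [HomologicalComplex.exactAt_iff' K (-(p + 1 : ℤ) - 1) (-(p + 1 : ℤ)) (-(p + 1 : ℤ) + 1)
      (by simp) (by simp), ShortComplex.moduleCat_exact_iff] at hex
    obtain ⟨w, hw⟩ := hex z hd
    have key : ∀ (j i : ℤ) (_ : j + 1 = i) (w : K.X j), emb f i ((K.d j i).hom w) = D f (emb f j w) := by
      rintro j i rfl w
      exact emb_d f j w
    refine ⟨emb f (-(p + 1 : ℤ) - 1) w, ?_⟩
    rw [← key _ (-(p + 1 : ℤ)) (by ring) w, ← hz]
    exact congrArg (emb f _) hw

section BaseChange

variable {A P B : Type u} [CommRing A] [CommRing P] [CommRing B] [Algebra A P] [Algebra A B] {n : ℕ}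

/-- Coordinatewise base change. -/
def bcMap : Kz P n ⊗[A] B →ₗ[A] Kz (P ⊗[A] B) n :=
  LinearMap.pi fun s => (LinearMap.proj s : Kz P n →ₗ[A] P).rTensor B

theorem bcMap_tmul (x : Kz P n) (b : B) (s : Idx n) : bcMap (x ⊗ₜ[A] b) s = x s ⊗ₜ b := rfl

theorem bcMap_surjective : Function.Surjective (bcMap (A := A) (P := P) (B := B) (n := n)) := by
  classical
  have := Fintype.ofFinite (Idx n)
  intro y
  refine ⟨∑ s, (LinearMap.single A (fun _ => P) s).rTensor B (y s), funext fun t => ?_⟩
  show (LinearMap.proj t : Kz P n →ₗ[A] P).rTensor B _ = _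
  rw [map_sum, Finset.sum_eq_single t]
  · rw [← LinearMap.rTensor_comp_apply]
    have : (LinearMap.proj t : Kz P n →ₗ[A] P) ∘ₗ LinearMap.single A (fun _ => P) t = LinearMap.id := by
      ext; simp
    rw [this, LinearMap.rTensor_id_apply]
  · intro s _ hs
    rw [← LinearMap.rTensor_comp_apply]
    have : (LinearMap.proj t : Kz P n →ₗ[A] P) ∘ₗ LinearMap.single A (fun _ => P) s = 0 := by
      ext; simp [Pi.single_eq_of_ne hs.symm]
    rw [this, LinearMap.rTensor_zero, LinearMap.zero_apply]
  · simp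

theorem bcMap_injective : Function.Injective (bcMap (A := A) (P := P) (B := B) (n := n)) := by
  classical
  have := Fintype.ofFinite (Idx n)
  refine Function.LeftInverse.injective
    (g := fun y => ∑ s, (LinearMap.single A (fun _ => P) s).rTensor B (y s)) fun t => ?_
  induction t using TensorProduct.induction_on with
  | zero => simp
  | tmul x b =>
    simp only [bcMap_tmul, LinearMap.rTensor_tmul, ← TensorProduct.sum_tmul, LinearMap.coe_single]
    rw [Finset.univ_sum_single]
  | add a b ha hb => simp only [map_add, Pi.add_apply, Finset.sum_add_distrib, ha, hb]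

/-- The image family in the base change. -/
def bcF (f : Fin n → P) : Fin n → P ⊗[A] B := fun i => f i ⊗ₜ 1

theorem bcMap_D : ∀ {n : ℕ} (f : Fin n → P) (x : Kz P n) (b : B),
    bcMap (D f x ⊗ₜ[A] b) = D (bcF (A := A) (B := B) f) (bcMap (x ⊗ₜ[A] b))
  | 0, f, x, b => by funext s; exact TensorProduct.zero_tmul P b
  | n + 1, f, x, b => by
    refine join_ext ?_ ?_
    · rw [pa_D]
      show bcMap (pa (D f x) ⊗ₜ[A] b) = _
      rw [pa_D, TensorProduct.add_tmul, map_add, bcMap_D (Fin.tail f) (pa x) b]
      congr 1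
      funext s
      show (f 0 * x (Sum.inr s)) ⊗ₜ[A] b = (f 0 ⊗ₜ[A] (1 : B)) * (x (Sum.inr s) ⊗ₜ[A] b)
      rw [Algebra.TensorProduct.tmul_mul_tmul, one_mul]
    · rw [pb_D]
      show bcMap (pb (D f x) ⊗ₜ[A] b) = _
      rw [pb_D, TensorProduct.neg_tmul, map_neg, bcMap_D (Fin.tail f) (pb x) b]
      rfl

theorem isExactK_baseChange [Module.Flat A B] (f : Fin n → P) (hf : IsExactK f) :
    IsExactK (bcF (A := A) (B := B) f) := by
  intro y hy he
  obtain ⟨t, rfl⟩ := bcMap_surjective y
  let I : Ideal P := Ideal.span (Set.range f)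
  let δ : Kz P n →ₗ[A] Kz P n := (D f).restrictScalars A
  let ε : Kz P n →ₗ[A] P ⧸ I := ((Ideal.Quotient.mkₐ A I).toLinearMap).comp ((eps (Q := P) (n := n)).restrictScalars A)
  have hexact : Function.Exact δ (δ.prod ε) := fun x => by
    constructor
    · intro h
      exact hf x (congrArg Prod.fst h) (Ideal.Quotient.eq_zero_iff_mem.1 (congrArg Prod.snd h))
    · rintro ⟨w, rfl⟩
      exact Prod.ext (D_D f w) (Ideal.Quotient.eq_zero_iff_mem.2 (eps_D_mem f w))
  have hflat := Module.Flat.rTensor_exact B hexact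
  have hD : ∀ t : Kz P n ⊗[A] B, bcMap (δ.rTensor B t) = D (bcF (A := A) (B := B) f) (bcMap t) := fun t => by
    induction t using TensorProduct.induction_on with
    | zero => simp
    | tmul x b => exact bcMap_D f x b
    | add a b ha hb => simp only [map_add, ha, hb]
  have hprod : ∀ t : Kz P n ⊗[A] B, TensorProduct.prodLeft A A (Kz P n) (P ⧸ I) B ((δ.prod ε).rTensor B t) =
      (δ.rTensor B t, ε.rTensor B t) := fun t => by
    induction t using TensorProduct.induction_on with
    | zero => rw [map_zero, map_zero, map_zero, map_zero, Prod.mk_zero_zero]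
    | tmul x b => simp [TensorProduct.prodLeft_tmul]
    | add a b ha hb => simp only [map_add, ha, hb, Prod.mk_add_mk]
  have hker : (δ.prod ε).rTensor B t = 0 := by
    apply (TensorProduct.prodLeft A A (Kz P n) (P ⧸ I) B).injective
    rw [hprod, map_zero, Prod.mk_eq_zero]
    refine ⟨bcMap_injective ((hD t).trans (hy.trans (map_zero _).symm)), ?_⟩
    have h1 : ε.rTensor B t = ((Ideal.Quotient.mkₐ A I).toLinearMap).rTensor B (bcMap t (bot n)) := by
      show ε.rTensor B t = _
      rw [show ε = (Ideal.Quotient.mkₐ A I).toLinearMap ∘ₗ (LinearMap.proj (bot n) : Kz P n →ₗ[A] P) from rfl,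
        LinearMap.rTensor_comp_apply]
      rfl
    rw [h1]
    have hle : Ideal.span (Set.range (bcF (A := A) (B := B) f)) ≤
        RingHom.ker (Algebra.TensorProduct.map (Ideal.Quotient.mkₐ A I) (AlgHom.id A B)).toRingHom := by
      rw [Ideal.span_le]
      rintro _ ⟨i, rfl⟩
      show Algebra.TensorProduct.map _ _ (f i ⊗ₜ[A] (1 : B)) = 0
      rw [Algebra.TensorProduct.map_tmul, show Ideal.Quotient.mkₐ A I (f i) = 0 from
        Ideal.Quotient.eq_zero_iff_mem.2 (Ideal.subset_span ⟨i, rfl⟩), TensorProduct.zero_tmul]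
    exact hle he
  obtain ⟨w, hw⟩ := (hflat t).1 hker
  exact ⟨bcMap w, by rw [← hD, hw]⟩

end BaseChange

end

end KoszDetLib
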