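import Mathlib.LinearAlgebra.Determinant
import Mathlib.LinearAlgebra.FreeModule.Basic
import Mathlib.Algebra.Module.Projective
import Mathlib.LinearAlgebra.Alternating.Basic
import Mathlib.RingTheory.Ideal.Span

/-!
# A recursive model of the Koszul complex and determinantal annihilators
-/

set_option autoImplicit false

universe u

namespace KoszDetLib

noncomputable section

variable {Q : Type u} [CommRing Q]

/-- Subsets of `Fin n`, recursively. -/
def Idx : ℕ → Type
  | 0 => Unit
  | n + 1 => Idx n ⊕ Idx n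

instance finite_idx : ∀ n, Finite (Idx n)
  | 0 => inferInstanceAs (Finite Unit)
  | n + 1 => have := finite_idx n; inferInstanceAs (Finite (Idx n ⊕ Idx n))

instance decEq_idx : ∀ n, DecidableEq (Idx n)
  | 0 => inferInstanceAs (DecidableEq Unit)
  | n + 1 => have := decEq_idx n; inferInstanceAs (DecidableEq (Idx n ⊕ Idx n))

def deg : ∀ {n : ℕ}, Idx n → ℕ
  | 0, _ => 0
  | _ + 1, .inl s => deg s
  | _ + 1, .inr s => deg s + 1

def bot : ∀ n, Idx n
  | 0 => ()
  | n + 1 => .inl (bot n)

def top : ∀ n, Idx n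
  | 0 => ()
  | n + 1 => .inr (top n)

theorem deg_bot : ∀ n, deg (bot n) = 0
  | 0 => rfl
  | n + 1 => deg_bot n

theorem deg_top : ∀ n, deg (top n) = n
  | 0 => rfl
  | n + 1 => congrArg (· + 1) (deg_top n)

theorem eq_bot_of_deg : ∀ {n : ℕ} (s : Idx n), deg s = 0 → s = bot n
  | 0, _, _ => rfl
  | _ + 1, .inl s, h => congrArg Sum.inl (eq_bot_of_deg s h)
  | _ + 1, .inr s, h => absurd h (Nat.succ_ne_zero _)

theorem deg_le : ∀ {n : ℕ} (s : Idx n), deg s ≤ n
  | 0, _ => le_rfl
  | _ + 1, .inl s => (deg_le s).trans (Nat.le_succ _)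
  | _ + 1, .inr s => Nat.succ_le_succ (deg_le s)

theorem eq_top_of_deg : ∀ {n : ℕ} (s : Idx n), deg s = n → s = top n
  | 0, _, _ => rfl
  | n + 1, .inl s, h => absurd (show deg s = n + 1 from h) (by have := deg_le s; omega)
  | n + 1, .inr s, h => congrArg Sum.inr (eq_top_of_deg s (Nat.succ_injective h))

variable (Q) in
/-- The Koszul module. -/
abbrev Kz (n : ℕ) : Type u := Idx n → Q

/-- Glue the two halves. -/
def join {n : ℕ} : Kz Q n × Kz Q n →ₗ[Q] Kz Q (n + 1) where
  toFun z := Sum.elim z.1 z.2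
  map_add' z w := by funext s; cases s <;> rfl
  map_smul' c z := by funext s; cases s <;> rfl

/-- The part without the first index. -/
def pa {n : ℕ} : Kz Q (n + 1) →ₗ[Q] Kz Q n := LinearMap.funLeft Q Q (Sum.inl : Idx n → Idx (n + 1))
/-- The part with the first index. -/
def pb {n : ℕ} : Kz Q (n + 1) →ₗ[Q] Kz Q n := LinearMap.funLeft Q Q (Sum.inr : Idx n → Idx (n + 1))

@[simp] theorem pa_join {n : ℕ} (a b : Kz Q n) : pa (join (a, b)) = a := rfl
@[simp] theorem pb_join {n : ℕ} (a b : Kz Q n) : pb (join (a, b)) = b := rfl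

theorem join_ext {n : ℕ} {x y : Kz Q (n + 1)} (ha : pa x = pa y) (hb : pb x = pb y) : x = y := by
  funext s
  cases s with
  | inl s => exact congrFun ha s
  | inr s => exact congrFun hb s

/-- The Koszul differential (lowering degree). -/
def D : ∀ {n : ℕ}, (Fin n → Q) → Kz Q n →ₗ[Q] Kz Q n
  | 0, _ => 0
  | _ + 1, f => join ∘ₗ ((D (Fin.tail f) ∘ₗ pa + f 0 • pb).prod (-(D (Fin.tail f) ∘ₗ pb)))

theorem pa_D {n : ℕ} (f : Fin (n + 1) → Q) (x : Kz Q (n + 1)) :
    pa (D f x) = D (Fin.tail f) (pa x) + f 0 • pb x := rfl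

theorem pb_D {n : ℕ} (f : Fin (n + 1) → Q) (x : Kz Q (n + 1)) :
    pb (D f x) = -D (Fin.tail f) (pb x) := rfl

theorem D_D : ∀ {n : ℕ} (f : Fin n → Q) (x : Kz Q n), D f (D f x) = 0
  | 0, _, _ => rfl
  | _ + 1, f, x => join_ext
      (by simp [pa_D, pb_D, D_D (Fin.tail f)])
      (by simp [pb_D, D_D (Fin.tail f)])

/-- The projection to degree `p`. -/
def proj {n : ℕ} (p : ℕ) : Kz Q n →ₗ[Q] Kz Q n where
  toFun x s := if deg s = p then x s else 0
  map_add' x y := by funext s; simp only [Pi.add_apply]; split_ifs <;> simp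
  map_smul' c x := by funext s; simp only [Pi.smul_apply, RingHom.id_apply]; split_ifs <;> simp

theorem proj_apply {n : ℕ} (p : ℕ) (x : Kz Q n) (s : Idx n) :
    proj p x s = if deg s = p then x s else 0 := rfl

theorem pa_proj {n : ℕ} (p : ℕ) (x : Kz Q (n + 1)) : pa (proj p x) = proj p (pa x) := rfl

theorem pb_proj {n : ℕ} (p : ℕ) (x : Kz Q (n + 1)) : pb (proj (p + 1) x) = proj p (pb x) := by
  funext s
  show (if deg s + 1 = p + 1 then x (Sum.inr s) else 0) = _
  simp only [Nat.succ_inj, proj_apply]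
  rfl

theorem pb_proj_zero {n : ℕ} (x : Kz Q (n + 1)) : pb (proj 0 x) = 0 := by
  funext s
  show (if deg s + 1 = 0 then x (Sum.inr s) else 0) = (0 : Q)
  simp

theorem proj_proj {n : ℕ} (p : ℕ) (x : Kz Q n) : proj p (proj p x) = proj p x := by
  funext s; simp only [proj_apply]; split_ifs <;> rfl

theorem D_proj_succ : ∀ {n : ℕ} (f : Fin n → Q) (p : ℕ) (x : Kz Q n),
    D f (proj (p + 1) x) = proj p (D f x)
  | 0, _, p, x => by
    funext s
    show (0 : Q) = if deg s = p then (0 : Q) else 0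
    split_ifs <;> rfl
  | n + 1, f, p, x => by
    refine join_ext ?_ ?_
    · rw [pa_D, pa_proj, pb_proj, pa_proj, pa_D, D_proj_succ, map_add, map_smul]
    · cases p with
      | zero =>
        rw [pb_D, pb_proj, pb_proj_zero, neg_eq_zero]
        funext s
        rcases Nat.eq_zero_or_pos n with h | h
        · subst h; rfl
        · exact congrFun (D_proj_zero (Fin.tail f) (pb x)) s
      | succ p => rw [pb_D, pb_proj, pb_proj, pb_D, D_proj_succ, map_neg]
where
  D_proj_zero : ∀ {n : ℕ} (f : Fin n → Q) (x : Kz Q n), D f (proj 0 x) = 0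
    | 0, _, _ => rfl
    | _ + 1, f, x => join_ext
        (by rw [pa_D, pa_proj, pb_proj_zero, D_proj_zero, smul_zero, add_zero, map_zero])
        (by rw [pb_D, pb_proj_zero, map_zero, neg_zero, map_zero])

theorem D_proj_zero {n : ℕ} (f : Fin n → Q) (x : Kz Q n) : D f (proj 0 x) = 0 :=
  D_proj_succ.D_proj_zero f x

theorem sum_proj {n : ℕ} (x : Kz Q n) : ∑ p ∈ Finset.range (n + 1), proj p x = x := by
  funext s
  rw [Finset.sum_apply]
  simp [proj_apply, deg_le s]

/-- The augmentation. -/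
def eps {n : ℕ} : Kz Q n →ₗ[Q] Q := LinearMap.proj (bot n)

/-- The degree-zero unit. -/
def one : ∀ n, Kz Q n
  | 0 => fun _ => 1
  | n + 1 => join (one n, 0)

theorem eps_one : ∀ n, eps (one n : Kz Q n) = 1
  | 0 => rfl
  | n + 1 => eps_one n

theorem proj_zero_eq : ∀ {n : ℕ} (x : Kz Q n), proj 0 x = eps x • one n
  | 0, x => by funext s; simp [proj_apply, deg, one, eps, bot]; rfl
  | n + 1, x => join_ext
      (by rw [pa_proj, proj_zero_eq, map_smul]; rfl)
      (by rw [pb_proj_zero, map_smul]; exact (smul_zero _).symm)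

theorem eps_D_mem : ∀ {n : ℕ} (f : Fin n → Q) (x : Kz Q n), eps (D f x) ∈ Ideal.span (Set.range f)
  | 0, _, _ => Ideal.zero_mem _
  | _ + 1, f, x => by
    show eps (D (Fin.tail f) (pa x)) + f 0 * eps (pb x) ∈ _
    exact Ideal.add_mem _ (Ideal.span_mono (Set.range_comp_subset_range Fin.succ f) (eps_D_mem _ _))
      (Ideal.mul_mem_right _ _ (Ideal.subset_span ⟨0, rfl⟩))

theorem D_mem : ∀ {n : ℕ} (f : Fin n → Q) (x : Kz Q n) (s : Idx n), D f x s ∈ Ideal.span (Set.range f)
  | 0, _, _, _ => Ideal.zero_mem _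
  | _ + 1, f, x, .inl s => by
    show D (Fin.tail f) (pa x) s + f 0 * pb x s ∈ _
    exact Ideal.add_mem _ (Ideal.span_mono (Set.range_comp_subset_range Fin.succ f) (D_mem _ _ _))
      (Ideal.mul_mem_right _ _ (Ideal.subset_span ⟨0, rfl⟩))
  | _ + 1, f, x, .inr s => by
    show -D (Fin.tail f) (pb x) s ∈ _
    refine (Ideal.span (Set.range f)).neg_mem ?_
    exact (Ideal.span_mono (Set.range_comp_subset_range Fin.succ f) (D_mem _ _ _))

theorem D_top : ∀ {n : ℕ} (f : Fin n → Q) (x : Kz Q n), D f x (top n) = 0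
  | 0, _, _ => rfl
  | _ + 1, f, x => neg_eq_zero.2 (D_top (Fin.tail f) (pb x))

theorem pa_single_top (n : ℕ) : pa (Pi.single (top (n + 1)) (1 : Q) : Kz Q (n + 1)) = 0 := by
  funext s
  exact Pi.single_eq_of_ne (M := fun _ => Q) (i := top (n + 1)) (i' := (Sum.inl s : Idx (n + 1)))
    (fun h => Sum.inl_ne_inr h) 1

theorem pb_single_top (n : ℕ) :
    pb (Pi.single (top (n + 1)) (1 : Q) : Kz Q (n + 1)) = Pi.single (top n) 1 := by
  funext s
  by_cases hs : s = top n
  · subst hs
    exact (Pi.single_eq_same (M := fun _ => Q) (top (n + 1)) 1).trans (Pi.single_eq_same (M := fun _ => Q) (top n) 1).symm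
  · exact (Pi.single_eq_of_ne (M := fun _ => Q) (i := top (n + 1)) (i' := (Sum.inr s : Idx (n + 1)))
      (fun h => hs (Sum.inr_injective h)) 1).trans (Pi.single_eq_of_ne (M := fun _ => Q) hs 1).symm

/-- Left multiplication by a vector. -/
def L : ∀ {n : ℕ}, (Fin n → Q) → Kz Q n →ₗ[Q] Kz Q n
  | 0, _ => 0
  | _ + 1, v => join ∘ₗ ((L (Fin.tail v) ∘ₗ pa).prod (v 0 • pa - L (Fin.tail v) ∘ₗ pb))

theorem pa_L {n : ℕ} (v : Fin (n + 1) → Q) (x : Kz Q (n + 1)) :
    pa (L v x) = L (Fin.tail v) (pa x) := rfl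

theorem pb_L {n : ℕ} (v : Fin (n + 1) → Q) (x : Kz Q (n + 1)) :
    pb (L v x) = v 0 • pa x - L (Fin.tail v) (pb x) := rfl

theorem L_L : ∀ {n : ℕ} (v : Fin n → Q) (x : Kz Q n), L v (L v x) = 0
  | 0, _, _ => rfl
  | _ + 1, v, x => join_ext
      (by simp [pa_L, L_L (Fin.tail v)])
      (by simp [pa_L, pb_L, L_L (Fin.tail v)])

theorem L_add : ∀ {n : ℕ} (v w : Fin n → Q) (x : Kz Q n), L (v + w) x = L v x + L w x
  | 0, _, _, _ => (add_zero _).symm
  | _ + 1, v, w, x => by
    have h : Fin.tail (v + w) = Fin.tail v + Fin.tail w := rfl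
    refine join_ext ?_ ?_
    · simp [pa_L, h, L_add (Fin.tail v) (Fin.tail w)]
    · simp [pb_L, h, L_add (Fin.tail v) (Fin.tail w), add_smul]; abel

theorem L_smul : ∀ {n : ℕ} (c : Q) (v : Fin n → Q) (x : Kz Q n), L (c • v) x = c • L v x
  | 0, _, _, _ => (smul_zero _).symm
  | _ + 1, c, v, x => by
    have h : Fin.tail (c • v) = c • Fin.tail v := rfl
    refine join_ext ?_ ?_
    · simp [pa_L, h, L_smul c (Fin.tail v)]
    · simp [pb_L, h, L_smul c (Fin.tail v), smul_sub, mul_smul]

theorem D_L : ∀ {n : ℕ} (f v : Fin n → Q) (x : Kz Q n),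
    D f (L v x) + L v (D f x) = (∑ i, v i * f i) • x
  | 0, _, _, _ => by funext s; simp [D, L]
  | _ + 1, f, v, x => by
    have h1 := D_L (Fin.tail f) (Fin.tail v) (pa x)
    have h2 := D_L (Fin.tail f) (Fin.tail v) (pb x)
    have hs : ∑ i, v i * f i = v 0 * f 0 + ∑ i, Fin.tail v i * Fin.tail f i := Fin.sum_univ_succ _
    refine join_ext ?_ ?_
    · simp only [map_add, map_smul, pa_D, pa_L, pb_L, pb_D, map_sub, hs, add_smul, smul_sub, ← h1,
        smul_smul, mul_comm (f 0) (v 0)]
      abel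
    · simp only [map_add, map_smul, pa_D, pa_L, pb_L, pb_D, map_sub, map_neg, hs, add_smul, ← h2,
        smul_add, smul_smul]
      abel

theorem eps_L : ∀ {n : ℕ} (v : Fin n → Q) (x : Kz Q n), eps (L v x) = 0
  | 0, _, _ => rfl
  | _ + 1, v, x => eps_L (Fin.tail v) (pa x)

theorem proj_L : ∀ {n : ℕ} (v : Fin n → Q) (p : ℕ) (x : Kz Q n),
    proj (p + 1) (L v x) = L v (proj p x)
  | 0, _, p, x => by funext s; simp [proj_apply, L]
  | n + 1, v, p, x => by
    refine join_ext ?_ ?_
    · rw [pa_proj, pa_L, pa_L, pa_proj, proj_L]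
    · rw [pb_proj, pb_L, pb_L, pa_proj, map_sub, map_smul]
      cases p with
      | zero =>
        rw [pb_proj_zero, map_zero]
        congr 1
        funext s
        simp only [proj_apply, Pi.zero_apply]
        split_ifs with h
        · rw [eq_bot_of_deg s h]; exact eps_L _ _
        · rfl
      | succ p => rw [pb_proj, proj_L]

/-- Product of vectors. -/
def wedge : ∀ {m n : ℕ}, (Fin m → Fin n → Q) → Kz Q n
  | 0, n, _ => one n
  | _ + 1, _, v => L (v 0) (wedge (Fin.tail v))

theorem proj_wedge : ∀ {m n : ℕ} (v : Fin m → Fin n → Q), proj m (wedge v) = wedge v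
  | 0, n, _ => by
    show proj 0 (one n) = one n
    rw [proj_zero_eq, eps_one, one_smul]
  | _ + 1, _, v => by
    show proj _ (L _ _) = L _ _
    rw [proj_L, proj_wedge]

/-- The chain map of a matrix. -/
def phi : ∀ {m n : ℕ}, (Fin m → Fin n → Q) → Kz Q m →ₗ[Q] Kz Q n
  | 0, n, _ => LinearMap.smulRight (LinearMap.proj (bot 0)) (one n)
  | _ + 1, _, c => phi (Fin.tail c) ∘ₗ pa + L (c 0) ∘ₗ phi (Fin.tail c) ∘ₗ pb

theorem D_one : ∀ {n : ℕ} (f : Fin n → Q), D f (one n) = 0
  | 0, _ => rfl
  | _ + 1, f => join_ext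
      (by rw [pa_D]; show D _ (one _) + f 0 • (0 : Kz Q _) = _; rw [D_one, smul_zero, add_zero, map_zero])
      (by rw [pb_D]; show -D _ (0 : Kz Q _) = _; rw [map_zero, neg_zero, map_zero])

theorem D_phi : ∀ {m n : ℕ} (c : Fin m → Fin n → Q) (f : Fin m → Q) (g : Fin n → Q)
    (_ : ∀ i, f i = ∑ j, c i j * g j) (x : Kz Q m), D g (phi c x) = phi c (D f x)
  | 0, _, c, f, g, _, x => by
    show D g (x (bot 0) • one _) = (0 : Q) • one _
    rw [map_smul, D_one, smul_zero, zero_smul]
  | m + 1, n, c, f, g, h, x => by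
    show D g (phi (Fin.tail c) (pa x) + L (c 0) (phi (Fin.tail c) (pb x))) =
      phi (Fin.tail c) (pa (D f x)) + L (c 0) (phi (Fin.tail c) (pb (D f x)))
    have ht : ∀ i, Fin.tail f i = ∑ j, Fin.tail c i j * g j := fun i => h i.succ
    have e := D_L g (c 0) (phi (Fin.tail c) (pb x))
    rw [D_phi (Fin.tail c) (Fin.tail f) g ht (pb x), ← h 0] at e
    rw [map_add, D_phi (Fin.tail c) (Fin.tail f) g ht (pa x), pa_D, pb_D, map_add, map_smul, map_neg,
      map_neg, ← e]
    abel

theorem phi_apply_top : ∀ {m n : ℕ} (c : Fin m → Fin n → Q),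
    phi c (Pi.single (top m) (1 : Q) : Kz Q m) = wedge c
  | 0, n, c => by
    show (Pi.single (top 0) (1 : Q) : Kz Q 0) (bot 0) • (one n : Kz Q n) = one n
    rw [show bot 0 = top 0 from rfl, Pi.single_eq_same, one_smul]
  | m + 1, n, c => by
    show phi (Fin.tail c) (pa _) + L (c 0) (phi (Fin.tail c) (pb _)) = L (c 0) (wedge (Fin.tail c))
    rw [pa_single_top, pb_single_top, map_zero, zero_add, phi_apply_top]

theorem eps_phi : ∀ {m n : ℕ} (c : Fin m → Fin n → Q) (x : Kz Q m), eps (phi c x) = eps x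
  | 0, n, c, x => by
    show eps (x (bot 0) • (one n : Kz Q n)) = _
    rw [map_smul, eps_one, smul_eq_mul, mul_one]; rfl
  | _ + 1, _, c, x => by
    show eps (phi (Fin.tail c) (pa x) + L (c 0) (phi (Fin.tail c) (pb x))) = _
    rw [map_add, eps_L, add_zero, eps_phi]; rfl

theorem wedge_update_add : ∀ {m n : ℕ} (v : Fin m → Fin n → Q) (i : Fin m) (x y : Fin n → Q),
    wedge (Function.update v i (x + y)) = wedge (Function.update v i x) + wedge (Function.update v i y)
  | 0, _, _, i, _, _ => i.elim0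
  | m + 1, n, v, i, x, y => by
    induction i using Fin.cases with
    | zero => simp [wedge, Fin.tail_update_zero, L_add]
    | succ i => simp [wedge, Fin.tail_update_succ, wedge_update_add, (Fin.succ_ne_zero i).symm]

theorem wedge_update_smul : ∀ {m n : ℕ} (v : Fin m → Fin n → Q) (i : Fin m) (a : Q) (x : Fin n → Q),
    wedge (Function.update v i (a • x)) = a • wedge (Function.update v i x)
  | 0, _, _, i, _, _ => i.elim0
  | m + 1, n, v, i, a, x => by
    induction i using Fin.cases with
    | zero => simp [wedge, Fin.tail_update_zero, L_smul]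
    | succ i => simp [wedge, Fin.tail_update_succ, wedge_update_smul, (Fin.succ_ne_zero i).symm]

theorem L_comm {n : ℕ} (v w : Fin n → Q) (x : Kz Q n) : L v (L w x) = -L w (L v x) := by
  have h := L_L (v + w) x
  simp only [L_add, map_add, L_L, zero_add, add_zero] at h
  rw [add_comm] at h
  exact eq_neg_of_add_eq_zero_left h

theorem L_wedge_eq_zero : ∀ {m n : ℕ} (v : Fin m → Fin n → Q) (j : Fin m), L (v j) (wedge v) = 0
  | 0, _, _, j => j.elim0
  | m + 1, n, v, j => by
    induction j using Fin.cases with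
    | zero => exact L_L _ _
    | succ j =>
      show L (v j.succ) (L (v 0) (wedge (Fin.tail v))) = 0
      rw [L_comm, show v j.succ = Fin.tail v j from rfl, L_wedge_eq_zero, map_zero, neg_zero]

theorem wedge_eq_zero : ∀ {m n : ℕ} (v : Fin m → Fin n → Q) (i j : Fin m), v i = v j → i ≠ j → wedge v = 0
  | 0, _, _, i, _, _, _ => i.elim0
  | m + 1, n, v, i, j, h, hij => by
    show L (v 0) (wedge (Fin.tail v)) = 0
    induction i using Fin.cases with
    | zero =>
      obtain ⟨j, rfl⟩ := Fin.exists_succ_eq.2 hij.symm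
      rw [h]; exact L_wedge_eq_zero (Fin.tail v) j
    | succ i =>
      induction j using Fin.cases with
      | zero => rw [← h]; exact L_wedge_eq_zero (Fin.tail v) i
      | succ j =>
        rw [wedge_eq_zero (Fin.tail v) i j h (fun e => hij (congrArg Fin.succ e)), map_zero]

theorem wedge_shift : ∀ {m n : ℕ} (v : Fin m → Fin n → Q),
    wedge (fun i => (Fin.cons 0 (v i) : Fin (n + 1) → Q)) = join (wedge v, 0)
  | 0, _, _ => rfl
  | m + 1, n, v => by
    show L _ (wedge _) = join (L (v 0) (wedge (Fin.tail v)), 0)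
    rw [show Fin.tail (fun i => (Fin.cons 0 (v i) : Fin (n + 1) → Q)) =
      fun i => Fin.cons 0 (Fin.tail v i) from rfl, wedge_shift]
    exact join_ext (by simp [pa_L]) (by simp [pb_L])

theorem wedge_basis : ∀ n : ℕ,
    wedge (fun i => (Pi.single i 1 : Fin n → Q)) = Pi.single (top n) 1
  | 0 => by funext s; simp [wedge, one, top]; rfl
  | n + 1 => by
    have h : Fin.tail (fun i => (Pi.single i 1 : Fin (n + 1) → Q)) =
        fun i => Fin.cons 0 (Pi.single i 1 : Fin n → Q) := by
      funext i j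
      induction j using Fin.cases with
      | zero => simp [Fin.tail]
      | succ j => simp [Fin.tail, Pi.single_apply]
    show L _ (wedge _) = _
    rw [h, wedge_shift, wedge_basis n]
    refine join_ext ?_ ?_
    · simp [pa_L]
      have : Fin.tail (Pi.single 0 1 : Fin (n + 1) → Q) = 0 := by
        funext j; simp [Fin.tail]
      rw [this]
      have h0 : ∀ x : Kz Q n, L (0 : Fin n → Q) x = 0 := fun x => by
        simpa using L_smul (0 : Q) (0 : Fin n → Q) x
      rw [h0]
      exact (pa_single_top n).symm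
    · simp [pb_L]
      exact (pb_single_top n).symm

/-- The wedge of `n` vectors in rank `n` is the determinant. -/
theorem wedge_eq_det {n : ℕ} (c : Matrix (Fin n) (Fin n) Q) :
    wedge (fun i j => c i j) = c.det • (Pi.single (top n) 1 : Kz Q n) := by
  let F : (Fin n → Q) [⋀^Fin n]→ₗ[Q] Q :=
    { toFun := fun v => wedge v (top n)
      map_update_add' := by
        intro inst v i x y
        rw [Subsingleton.elim inst (instDecidableEqFin n), wedge_update_add]; rfl
      map_update_smul' := by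
        intro inst v i a x
        rw [Subsingleton.elim inst (instDecidableEqFin n), wedge_update_smul]; rfl
      map_eq_zero_of_eq' := fun v i j h hij => by
        show wedge v (top n) = 0
        rw [wedge_eq_zero v i j h hij]; rfl }
  have hF := F.eq_smul_basis_det (Pi.basisFun Q (Fin n))
  have key : F (fun i j => c i j) = c.det := by
    rw [hF]
    show F (fun i => Pi.basisFun Q (Fin n) i) • (Pi.basisFun Q (Fin n)).det (fun i j => c i j) = _
    have h1 : F (fun i => Pi.basisFun Q (Fin n) i) = 1 := by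
      show wedge _ (top n) = 1
      rw [show (fun i => Pi.basisFun Q (Fin n) i) = fun i => (Pi.single i 1 : Fin n → Q) from
        funext fun i => Pi.basisFun_apply Q (Fin n) i, wedge_basis, Pi.single_eq_same]
    rw [h1, one_smul, Pi.basisFun_det_apply]
    rfl
  funext s
  rw [Pi.smul_apply, ← key]
  by_cases hs : s = top n
  · subst hs; simp; rfl
  · have := congrFun (proj_wedge (fun i j => c i j)) s
    rw [proj_apply, if_neg fun h => hs (eq_top_of_deg s h)] at this
    simp [← this, hs]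

/-- Exactness of the Koszul complex in positive degrees. -/
def IsExactK {n : ℕ} (f : Fin n → Q) : Prop :=
  ∀ x : Kz Q n, D f x = 0 → eps x ∈ Ideal.span (Set.range f) → x ∈ LinearMap.range (D f)

variable {n : ℕ}

theorem exists_lift {E : Type u} [AddCommGroup E] [Module Q E] [Module.Projective Q E] {f : Fin n → Q}
    (hf : IsExactK f) (τ : E →ₗ[Q] Kz Q n) (h1 : ∀ z, D f (τ z) = 0)
    (h2 : ∀ z, eps (τ z) ∈ Ideal.span (Set.range f)) :
    ∃ χ : E →ₗ[Q] Kz Q n, (∀ z, D f (χ z) = τ z) ∧ ∀ z, eps (χ z) = 0 := by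
  obtain ⟨χ, hχ⟩ := Module.projective_lifting_property (D f).rangeRestrict
    (τ.codRestrict _ fun z => hf _ (h1 z) (h2 z)) (D f).surjective_rangeRestrict
  refine ⟨χ - proj 0 ∘ₗ χ, fun z => ?_, fun z => ?_⟩
  · have := congrArg Subtype.val (LinearMap.congr_fun hχ z)
    simp only [LinearMap.coe_comp, Function.comp_apply, LinearMap.codRestrict_apply] at this
    simp only [LinearMap.sub_apply, LinearMap.coe_comp, Function.comp_apply, map_sub, D_proj_zero, sub_zero]
    exact this
  · show χ z (bot n) - proj 0 (χ z) (bot n) = 0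
    rw [proj_apply, if_pos (deg_bot n), sub_self]

/-- Chain maps prescribed in degree zero. -/
theorem exists_chain {m : ℕ} (g : Fin m → Q) {f : Fin n → Q} (hf : IsExactK f) (y : Q)
    (hy : ∀ x ∈ Ideal.span (Set.range g), y * x ∈ Ideal.span (Set.range f)) :
    ∃ ψ : Kz Q m →ₗ[Q] Kz Q n, (∀ x, D f (ψ x) = ψ (D g x)) ∧ ∀ x, eps (ψ x) = y * eps x := by
  suffices key : ∀ p : ℕ, ∃ ψ : Kz Q m →ₗ[Q] Kz Q n,
      (∀ q ≤ p, ∀ x, D f (ψ (proj q x)) = ψ (D g (proj q x))) ∧ ∀ x, eps (ψ x) = y * eps x by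
    obtain ⟨ψ, h1, h2⟩ := key m
    refine ⟨ψ, fun x => ?_, h2⟩
    rw [← sum_proj x]
    simp only [map_sum]
    exact Finset.sum_congr rfl fun q hq => h1 q (Nat.lt_succ_iff.1 (Finset.mem_range.1 hq)) x
  intro p
  induction p with
  | zero =>
    refine ⟨(eps.smulRight (y • one n)), fun q hq x => ?_, fun x => ?_⟩
    · obtain rfl := Nat.le_zero.1 hq
      rw [D_proj_zero, map_zero, LinearMap.smulRight_apply, map_smul, map_smul, D_one, smul_zero, smul_zero]
    · simp [eps_one, mul_comm]
  | succ p ih =>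
    obtain ⟨ψ, hψ, hψe⟩ := ih
    obtain ⟨χ, hχ, hχe⟩ := exists_lift hf (ψ ∘ₗ D g ∘ₗ proj (p + 1))
      (fun z => by
        show D f (ψ (D g (proj (p + 1) z))) = 0
        rw [D_proj_succ, hψ p le_rfl, ← D_proj_succ, D_D, map_zero])
      (fun z => by
        show eps (ψ _) ∈ _
        rw [hψe]; exact hy _ (eps_D_mem g _))
    refine ⟨ψ + χ ∘ₗ proj (p + 1) - ψ ∘ₗ proj (p + 1), fun q hq x => ?_, fun x => ?_⟩
    · simp only [LinearMap.sub_apply, LinearMap.add_apply, LinearMap.coe_comp, Function.comp_apply]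
      have hd : proj (p + 1) (D g (proj q x)) = 0 := by
        cases q with
        | zero => rw [D_proj_zero, map_zero]
        | succ q =>
          rw [D_proj_succ]
          funext s
          simp only [proj_apply, Pi.zero_apply]
          split_ifs with a b <;> first | rfl | omega
      rw [hd, map_zero, map_zero, add_zero, sub_zero]
      rcases Nat.lt_or_ge q (p + 1) with hlt | hge
      · have : proj (p + 1) (proj q x) = 0 := by
          funext s
          simp only [proj_apply, Pi.zero_apply]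
          split_ifs with a b <;> first | rfl | omega
        rw [this, map_zero, map_zero, add_zero, sub_zero]
        exact hψ q (Nat.lt_succ_iff.1 hlt) x
      · obtain rfl : q = p + 1 := le_antisymm hq hge
        rw [proj_proj, add_sub_cancel_left, hχ]
        show ψ (D g (proj (p + 1) (proj (p + 1) x))) = _
        rw [proj_proj]
    · simp only [LinearMap.sub_apply, LinearMap.add_apply, LinearMap.coe_comp, Function.comp_apply, map_sub,
        map_add, hχe, hψe]
      have : eps (proj (p + 1) x) = 0 := by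
        show proj (p + 1) x (bot m) = 0
        rw [proj_apply, if_neg (by rw [deg_bot]; omega)]
      rw [this]; ring

/-- A self chain map vanishing in degree zero is null-homotopic. -/
theorem exists_homotopy {f : Fin n → Q} (hf : IsExactK f) (θ : Kz Q n →ₗ[Q] Kz Q n)
    (hθ : ∀ x, D f (θ x) = θ (D f x)) (hθe : ∀ x, eps (θ x) = 0) :
    ∃ h : Kz Q n →ₗ[Q] Kz Q n, ∀ x, θ x = D f (h x) + h (D f x) := by
  suffices key : ∀ p : ℕ, ∃ h : Kz Q n →ₗ[Q] Kz Q n,
      (∀ q ≤ p, ∀ x, θ (proj q x) = D f (h (proj q x)) + h (D f (proj q x))) ∧ ∀ x, eps (h x) = 0 by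
    obtain ⟨h, h1, -⟩ := key n
    refine ⟨h, fun x => ?_⟩
    rw [← sum_proj x]
    simp only [map_sum, ← Finset.sum_add_distrib]
    exact Finset.sum_congr rfl fun q hq => h1 q (Nat.lt_succ_iff.1 (Finset.mem_range.1 hq)) x
  intro p
  induction p with
  | zero =>
    obtain ⟨χ, hχ, hχe⟩ := exists_lift hf (θ ∘ₗ proj 0)
      (fun z => by show D f (θ _) = 0; rw [hθ, D_proj_zero, map_zero])
      (fun z => by show eps (θ _) ∈ _; rw [hθe]; exact Ideal.zero_mem _)
    refine ⟨χ, fun q hq x => ?_, hχe⟩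
    obtain rfl := Nat.le_zero.1 hq
    rw [D_proj_zero, map_zero, add_zero, hχ]
    show _ = θ (proj 0 (proj 0 x))
    rw [proj_proj]
  | succ p ih =>
    obtain ⟨h, hh, hhe⟩ := ih
    obtain ⟨χ, hχ, hχe⟩ := exists_lift hf ((θ - h ∘ₗ D f) ∘ₗ proj (p + 1))
      (fun z => by
        show D f (θ (proj (p + 1) z) - h (D f (proj (p + 1) z))) = 0
        rw [map_sub, hθ]
        conv_lhs => rw [D_proj_succ, hh p le_rfl, ← D_proj_succ, D_D, map_zero, add_zero]
        rw [sub_self])
      (fun z => by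
        show eps (θ _ - h _) ∈ _
        rw [map_sub, hθe, hhe, sub_zero]; exact Ideal.zero_mem _)
    refine ⟨h + χ ∘ₗ proj (p + 1) - h ∘ₗ proj (p + 1), fun q hq x => ?_, fun x => ?_⟩
    · simp only [LinearMap.sub_apply, LinearMap.add_apply, LinearMap.coe_comp, Function.comp_apply]
      have hd : proj (p + 1) (D f (proj q x)) = 0 := by
        cases q with
        | zero => rw [D_proj_zero, map_zero]
        | succ q =>
          rw [D_proj_succ]
          funext s
          simp only [proj_apply, Pi.zero_apply]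
          split_ifs with a b <;> first | rfl | omega
      rw [hd, map_zero, map_zero, add_zero, sub_zero]
      rcases Nat.lt_or_ge q (p + 1) with hlt | hge
      · have : proj (p + 1) (proj q x) = 0 := by
          funext s
          simp only [proj_apply, Pi.zero_apply]
          split_ifs with a b <;> first | rfl | omega
        rw [this, map_zero, map_zero, add_zero, sub_zero]
        exact hh q (Nat.lt_succ_iff.1 hlt) x
      · obtain rfl : q = p + 1 := le_antisymm hq hge
        rw [proj_proj, add_sub_cancel_left, hχ]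
        show _ = (θ (proj (p + 1) (proj (p + 1) x)) - h (D f (proj (p + 1) (proj (p + 1) x)))) + _
        rw [proj_proj, sub_add_cancel]
    · simp only [LinearMap.sub_apply, LinearMap.add_apply, LinearMap.coe_comp, Function.comp_apply, map_sub,
        map_add, hχe, hhe]
      simp

/-- **Determinantal annihilator**: if `f = c g` with `f` Koszul-regular, then
`((f) : (g)) ⊆ (f) + (det c)`. -/
theorem exists_det_mul_sub_mem {f g : Fin n → Q} (hf : IsExactK f) (c : Matrix (Fin n) (Fin n) Q)
    (hc : ∀ i, f i = ∑ j, c i j * g j) (y : Q)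
    (hy : ∀ x ∈ Ideal.span (Set.range g), y * x ∈ Ideal.span (Set.range f)) :
    ∃ a, a * c.det - y ∈ Ideal.span (Set.range f) := by
  obtain ⟨ψ, hψ, hψe⟩ := exists_chain g hf y hy
  let θ : Kz Q n →ₗ[Q] Kz Q n := ψ ∘ₗ phi (fun i j => c i j) - y • LinearMap.id
  have hφ : ∀ x, D g (phi (fun i j => c i j) x) = phi (fun i j => c i j) (D f x) := fun x =>
    D_phi _ f g hc x
  obtain ⟨h, hh⟩ := exists_homotopy hf θ
    (fun x => by simp [θ, hψ, hφ])
    (fun x => by simp [θ, hψe, eps_phi])
  refine ⟨ψ (Pi.single (top n) 1) (top n), ?_⟩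
  have e := congrFun (hh (Pi.single (top n) 1)) (top n)
  rw [Pi.add_apply, D_top, zero_add] at e
  have el : θ (Pi.single (top n) 1) (top n) = ψ (Pi.single (top n) 1) (top n) * c.det - y := by
    simp [θ, phi_apply_top, wedge_eq_det, mul_comm]
  rw [← el, e]
  have hD : D f (Pi.single (top n) 1) ∈ (Ideal.span (Set.range f)) • (⊤ : Submodule Q (Kz Q n)) := by
    classical
    have := Fintype.ofFinite (Idx n)
    rw [← (Pi.basisFun Q (Idx n)).sum_repr (D f _)]
    exact Submodule.sum_mem _ fun s _ =>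
      Submodule.smul_mem_smul (by simpa using D_mem f _ s) Submodule.mem_top
  have h' := Submodule.mem_map_of_mem (f := (LinearMap.proj (top n) : Kz Q n →ₗ[Q] Q) ∘ₗ h) hD
  rw [Submodule.map_smul''] at h'
  exact (show Ideal.span (Set.range f) • (Submodule.map _ ⊤ : Submodule Q Q) ≤ Ideal.span (Set.range f) from
    Submodule.smul_le.2 fun r hr n _ => Ideal.mul_mem_right n _ hr) h'

end

end KoszDetLib
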